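import Groth.Agent.WC97.Cycles
import Groth.Agent.WC97.Points
import Groth.Agent.InsepMult31.Basic
import Groth.Agent.Cyc90.GysinPull
import Groth.Agent.FlatMor68.FibreStalk
import Groth.Agent.EGA73.DvrPoints
import Mathlib.FieldTheory.IsPerfectClosure
import Mathlib.AlgebraicGeometry.Morphisms.UniversallyInjective

/-!
Cycles and base change to the perfect closure.
-/

set_option autoImplicit false
set_option maxHeartbeats 400000
universe u

open CategoryTheory CategoryTheory.Limits AlgebraicGeometry IsLocalRing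
open scoped TensorProduct

namespace Groth.Agent.RelCyc91

theorem isHomeomorph_of_uh {X' X : Scheme.{u}} (g : X' ⟶ X) [IsIntegralHom g] [UniversallyInjective g]
    [Surjective g] : IsHomeomorph g.base :=
  isHomeomorph_iff_continuous_isClosedMap_bijective.2 ⟨g.continuous, g.isClosedMap, g.injective, g.surjective⟩

theorem perfectClosure_uh (k : Type u) [Field k] (p : ℕ) [Fact p.Prime] [CharP k p] :
    IsIntegralHom (Spec.map (CommRingCat.ofHom (PerfectClosure.of k p))) ∧
    UniversallyInjective (Spec.map (CommRingCat.ofHom (PerfectClosure.of k p))) ∧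
    Surjective (Spec.map (CommRingCat.ofHom (PerfectClosure.of k p))) := by
  let i := PerfectClosure.of k p
  refine ⟨?_, ?_, ?_⟩
  · rw [IsIntegralHom.SpecMap_iff]
    intro x
    obtain ⟨n, y, hy⟩ := IsPRadical.pow_mem i p x
    refine ⟨Polynomial.X ^ (p ^ n) - Polynomial.C y, Polynomial.monic_X_pow_sub_C y
      (pow_pos (Fact.out : p.Prime).pos n).ne', ?_⟩
    simp [i, ← hy]
  · refine ((tfae_universallyInjective (Spec.map (CommRingCat.ofHom i))).out 0 1).mpr ?_
    intro K _ g₁ g₂ h
    obtain ⟨a, rfl⟩ := Spec.map_surjective g₁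
    obtain ⟨b, rfl⟩ := Spec.map_surjective g₂
    replace h := Spec.map_injective ((Spec.map_comp _ _).trans (h.trans (Spec.map_comp _ _).symm))
    congr 1
    ext x
    obtain ⟨n, y, hy⟩ := IsPRadical.pow_mem i p x
    have : CharP K p := charP_of_injective_ringHom (a.hom.comp i).injective p
    refine iterateFrobenius_inj K p n ?_
    rw [iterateFrobenius_def, iterateFrobenius_def, ← map_pow, ← map_pow, ← hy]
    exact congr($h y)
  · exact ⟨fun x => ⟨(inferInstance : Nonempty (Spec (CommRingCat.of (PerfectClosure k p)))).some,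
      Subsingleton.elim (α := PrimeSpectrum k) _ _⟩⟩

theorem residueField_fg (k : Type u) [Field k] {X : Scheme.{u}} (f : X ⟶ Spec (CommRingCat.of k))
    [LocallyOfFiniteType f] (x : X) :
    letI := (WC97.kStr f x).toAlgebra
    (⊤ : IntermediateField k (X.residueField x)).FG := by
  letI a1 : Algebra k (X.residueField x) := (WC97.kStr f x).toAlgebra
  letI a2 : Algebra k ((Spec (CommRingCat.of k)).residueField (f x)) := (WC97.kStr (𝟙 _) (f x)).toAlgebra
  letI a3 : Algebra ((Spec (CommRingCat.of k)).residueField (f x)) (X.residueField x) :=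
    (f.residueFieldMap x).hom.toAlgebra
  have : IsScalarTower k ((Spec (CommRingCat.of k)).residueField (f x)) (X.residueField x) :=
    .of_algebraMap_eq fun r => RingHom.congr_fun (WC97.kStr_comp f f (𝟙 _) (Category.comp_id _) x) r
  have : Module.Finite k ((Spec (CommRingCat.of k)).residueField (f x)) :=
    Module.Finite.of_surjective (Algebra.linearMap k _) (WC97.kStr_id_bijective (f x)).2
  have := IntermediateField.fg_top_iff.1 (EGA73.residueField_fg f x)
  exact IntermediateField.fg_top_iff.2
    (Algebra.EssFiniteType.comp k ((Spec (CommRingCat.of k)).residueField (f x)) (X.residueField x))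

/-- The length at a point of a one-point fibre. -/
theorem length_fibreι_eq_pow (k : Type u) [Field k] (p : ℕ) [Fact p.Prime] [CharP k p] (K : Type u) [Field K]
    [Algebra k K] {X : Scheme.{u}} (f : X ⟶ Spec (CommRingCat.of k)) [LocallyOfFiniteType f]
    [UniversallyInjective (Spec.map (CommRingCat.ofHom (algebraMap k K)))] (x : X)
    (w : (pullback.fst f (Spec.map (CommRingCat.ofHom (algebraMap k K)))).fiber x) :
    letI g := pullback.fst f (Spec.map (CommRingCat.ofHom (algebraMap k K)))
    ∃ n : ℕ, Module.length ((pullback f (Spec.map (CommRingCat.ofHom (algebraMap k K)))).presheaf.stalk (g.fiberι x w))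
      ((pullback f (Spec.map (CommRingCat.ofHom (algebraMap k K)))).presheaf.stalk (g.fiberι x w) ⧸
        Ideal.map (g.stalkMap (g.fiberι x w)).hom (maximalIdeal (X.presheaf.stalk (g (g.fiberι x w))))) =
      (p ^ n : ℕ) := by
  let g := pullback.fst f (Spec.map (CommRingCat.ofHom (algebraMap k K)))
  have : UniversallyInjective g := MorphismProperty.pullback_fst (P := @UniversallyInjective) _ _ inferInstance
  letI : Algebra k (X.residueField x) := (WC97.kStr f x).toAlgebra
  have hspec : X.fromSpecResidueField x ≫ f =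
      Spec.map (CommRingCat.ofHom (algebraMap k (X.residueField x))) := (WC97.kStr_spec f x).symm
  let E : g.fiber x ≅ Spec (CommRingCat.of (K ⊗[k] X.residueField x)) :=
    pullbackSymmetry _ _ ≪≫ pullbackRightPullbackFstIso f _ (X.fromSpecResidueField x) ≪≫
      pullback.congrHom hspec rfl ≪≫ pullbackSymmetry _ _ ≪≫ pullbackSpecIso k K (X.residueField x)
  let q : PrimeSpectrum (K ⊗[k] X.residueField x) := E.hom w
  have hss : Subsingleton (g.fiber x) := ⟨fun a b => (g.fiberι x).isEmbedding.injective (g.injective (by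
    have ha : g.fiberι x a ∈ g ⁻¹' {x} := by rw [← Scheme.Hom.range_fiberι]; exact ⟨a, rfl⟩
    have hb : g.fiberι x b ∈ g ⁻¹' {x} := by rw [← Scheme.Hom.range_fiberι]; exact ⟨b, rfl⟩
    exact ha.trans hb.symm))⟩
  have hmin : q.asIdeal ∈ minimalPrimes (K ⊗[k] X.residueField x) := by
    obtain ⟨P, hP, -⟩ := Ideal.exists_minimalPrimes_le (bot_le : ⊥ ≤ q.asIdeal)
    obtain ⟨a, ha⟩ := E.hom.surjective (⟨P, hP.1.1⟩ : PrimeSpectrum (K ⊗[k] X.residueField x))
    have : P = q.asIdeal := (congrArg PrimeSpectrum.asIdeal ha).symm.trans (by rw [Subsingleton.elim a w])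
    rw [← this]
    exact hP
  have : ExpChar k p := ExpChar.prime Fact.out
  obtain ⟨n, hn⟩ := InsepMult31.length_localization_baseChange k K (X.residueField x)
    (residueField_fg k f x) p q.asIdeal hmin
  refine ⟨n, ?_⟩
  let e : (g.fiber x).presheaf.stalk w ≃+* Localization.AtPrime q.asIdeal :=
    ((asIso (E.hom.stalkMap w)).symm ≪≫
      Spec.stalkIso (CommRingCat.of (K ⊗[k] X.residueField x)) q).commRingCatIsoToRingEquiv
  rw [← hn, ← InsepMult31.length_of_ringEquiv e]
  have h := Cyc90.length_quot_map_of_surjective _ (FlatMor68.FibreStalk.fiberι_stalkMap_surjective g _ w) ⊥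
  rw [FlatMor68.FibreStalk.ker_fiberι_stalkMap, bot_sup_eq, Ideal.map_bot] at h
  rw [← h]
  exact (Submodule.quotEquivOfEqBot _ rfl).length_eq

theorem main (p : ℕ) {X Y : Scheme.{u}} {k K : Type u} [Field k] [Field K]
    (f : X ⟶ Spec (CommRingCat.of k)) [LocallyOfFiniteType f]
    (h : Y ⟶ Spec (CommRingCat.of K)) [LocallyOfFiniteType h] [CompactSpace Y]
    (g : Y ⟶ X) (hh : IsHomeomorph g.base) (δ : X → ℤ) (hδ : Cyc.DeltaCompat f δ (fun _ => 0))
    (δ' : Y → ℤ) (hδ' : Cyc.DeltaCompat h δ' (fun _ => 0))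
    (he' : ∀ y : Y, ∃ n : ℕ, Module.length (Y.presheaf.stalk y) (Y.presheaf.stalk y ⧸
      Ideal.map (g.stalkMap y).hom (maximalIdeal (X.presheaf.stalk (g y)))) = (p ^ n : ℕ))
    (r : ℤ) (β : AlgebraicCycle Y ℤ) (hβ : β ∈ Cyc.Zk Y δ' r) :
    ∃ (n : ℕ) (α : AlgebraicCycle X ℤ), α ∈ Cyc.Zk X δ r ∧
      (p : ℤ) ^ n • ⇑β = Cyc.pullFun g δ' δ 0 ⇑α := by
  classical
  have hdelta : ∀ y, δ' y = δ (g y) := fun y => by
    rw [WC97.delta_eq_pdim f δ hδ, WC97.delta_eq_pdim h δ' hδ', Nat.cast_inj]
    have hcl : closure ({g y} : Set X) = hh.homeomorph '' closure ({y} : Set Y) := by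
      rw [Homeomorph.image_closure, Set.image_singleton]; rfl
    unfold WeilCoh.pdim WeilCoh.natDim
    rw [hcl, ((hh.homeomorph).image (closure ({y} : Set Y))).isHomeomorph.topologicalKrullDim_eq]
  choose e he using he'
  have hfin : (Function.support β).Finite := by
    have h := LocallyFiniteSupport.finite_inter_support_of_isCompact
      (Function.locallyFinsupp.locallyFiniteSupport β) (W := Set.univ) isCompact_univ
    rwa [Set.univ_inter] at h
  let N := hfin.toFinset.sup e
  let inv := hh.homeomorph.symm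
  let a : X → ℤ := fun x => (p : ℤ) ^ (N - e (inv x)) * β (inv x)
  have ha : ∀ x, a x ≠ 0 → x ∈ g '' Function.support β := fun x hx =>
    ⟨inv x, fun h => hx (show a x = 0 by simp [a, h]), hh.homeomorph.apply_symm_apply x⟩
  let α : AlgebraicCycle X ℤ :=
    { toFun := a
      supportWithinDomain' := Set.subset_univ _
      supportLocallyFiniteWithinDomain' := fun z _ => ⟨Set.univ, Filter.univ_mem,
        ((hfin.image g).subset fun x hx => ha x hx.2)⟩ }
  refine ⟨N, α, fun x hx => ?_, funext fun y => ?_⟩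
  · change a x = 0
    have hi : g (inv x) = x := hh.homeomorph.apply_symm_apply x
    simp [a, hβ (inv x) (fun h => hx (by rw [← hi, ← hdelta, h]))]
  · change (p : ℤ) ^ N • β y = Cyc.pullFun g δ' δ 0 a y
    rw [Cyc.pullFun, if_pos (by rw [hdelta, add_zero])]
    have hi : inv (g y) = y := hh.homeomorph.symm_apply_apply y
    change (p : ℤ) ^ N * β y = (p : ℤ) ^ (N - e (inv (g y))) * β (inv (g y)) * _
    rw [hi]
    by_cases hy : β y = 0
    · simp [hy]
    · have hle : e y ≤ N := Finset.le_sup (hfin.mem_toFinset.2 hy)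
      rw [he y, ENat.toNat_coe, Nat.cast_pow, mul_right_comm, ← pow_add, Nat.sub_add_cancel hle]

theorem perfectClosure_main (k : Type u) [Field k] (p : ℕ) [Fact p.Prime] [CharP k p] (X : Scheme.{u})
    (f : X ⟶ Spec (CommRingCat.of k)) [LocallyOfFiniteType f] [QuasiCompact f] (δ : X → ℤ)
    (hδ : Cyc.DeltaCompat f δ (fun _ => 0))
    (δ' : ↥(pullback f (Spec.map (CommRingCat.ofHom (PerfectClosure.of k p)))) → ℤ)
    (hδ' : Cyc.DeltaCompat (pullback.snd f (Spec.map (CommRingCat.ofHom (PerfectClosure.of k p)))) δ' (fun _ => 0))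
    (r : ℤ) (β : AlgebraicCycle (pullback f (Spec.map (CommRingCat.ofHom (PerfectClosure.of k p)))) ℤ)
    (hβ : β ∈ Cyc.Zk _ δ' r) :
    ∃ (n : ℕ) (α : AlgebraicCycle X ℤ), α ∈ Cyc.Zk X δ r ∧ (p : ℤ) ^ n • ⇑β =
      Cyc.pullFun (pullback.fst f (Spec.map (CommRingCat.ofHom (PerfectClosure.of k p)))) δ' δ 0 ⇑α := by
  letI : Algebra k (PerfectClosure k p) := (PerfectClosure.of k p).toAlgebra
  obtain ⟨h1, h2, h3⟩ := perfectClosure_uh k p
  have : UniversallyInjective (Spec.map (CommRingCat.ofHom (algebraMap k (PerfectClosure k p)))) := h2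
  let g := pullback.fst f (Spec.map (CommRingCat.ofHom (PerfectClosure.of k p)))
  have : IsIntegralHom g := MorphismProperty.pullback_fst (P := @IsIntegralHom) _ _ h1
  have : UniversallyInjective g := MorphismProperty.pullback_fst (P := @UniversallyInjective) _ _ h2
  have : Surjective g := MorphismProperty.pullback_fst (P := @Surjective) _ _ h3
  let h := pullback.snd f (Spec.map (CommRingCat.ofHom (PerfectClosure.of k p)))
  have : LocallyOfFiniteType h := MorphismProperty.pullback_snd (P := @LocallyOfFiniteType) _ _ inferInstance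
  have : CompactSpace ↥(pullback f (Spec.map (CommRingCat.ofHom (PerfectClosure.of k p)))) :=
    QuasiCompact.compactSpace_of_compactSpace h
  refine main p f h g (isHomeomorph_of_uh g) δ hδ δ' hδ' (fun y => ?_) r β hβ
  obtain ⟨w, hw⟩ : y ∈ Set.range (g.fiberι (g y)) := by rw [Scheme.Hom.range_fiberι]; rfl
  obtain ⟨n, hn⟩ := length_fibreι_eq_pow k p (PerfectClosure k p) f (g y) w
  exact ⟨n, hw ▸ hn⟩

end Groth.Agent.RelCyc91
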